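import Mathlib
import Cfsg.Agent.H190.Frattini
import Cfsg.Agent.Classification.InvariantCore
import Cfsg.Agent.OddCyclic.ClaimC.SzIso
import Cfsg.Agent.H98.SzPartition
import Cfsg.Agent.FastGrp
import Cfsg.Agent.Prune
set_option linter.all false

section
prune_inst 0x7f00000000000000000000000000000000000000000000000000000000000000000000000000000000000000000000000000000000000000000000000000000000000000000000000000000000000000003fffffffffffffffffffffffffffbeffbdffffffff

-- part: H190/Exc/Defs
section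
set_option linter.all false
open scoped Cfsg.Agent.FastGrp

/-!
# Families of primes with cyclic centralisers

`CC G r` : the centralisers of the elements of order `r` are cyclic;
`NN G r s` : no element of order `r` normalises a subgroup of order `s`;
`Ind G ρ` : `ρ` is a set of primes `≥ 11` dividing `|G|` with `CC`, pairwise `NN`.
`CD G r n` : `|C(x)|` divides `n` for all `x` of order `r`.

Tools: `CC.comm`, `CC.mem_zpowers` (elements `a`, `b` of the same order in `C(x)` generate the same subgroup),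
`Ind.not_adj`, `Ind.congr`, `Ind.mono`.
-/

set_option autoImplicit false

namespace Cfsg.Agent.H190.Exc

variable {G : Type*} [Group G]

/-- the centralisers of the elements of order `r` are cyclic -/
def CC (G : Type*) [Group G] (r : ℕ) : Prop :=
  ∀ x : G, orderOf x = r → IsCyclic ↥(Subgroup.centralizer ({x} : Set G))

/-- no element of order `r` normalises a subgroup of order `s` -/
def NN (G : Type*) [Group G] (r s : ℕ) : Prop :=
  ∀ x y : G, orderOf x = r → orderOf y = s → x * y * x⁻¹ ∉ Subgroup.zpowers y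

/-- the orders of the centralisers of the elements of order `r` divide `n` -/
def CD (G : Type*) [Group G] (r n : ℕ) : Prop :=
  ∀ x : G, orderOf x = r → Nat.card ↥(Subgroup.centralizer ({x} : Set G)) ∣ n

/-- a set of primes `≥ 11` dividing the order, with cyclic centralisers, pairwise not normalising -/
structure Ind (G : Type*) [Group G] (ρ : Finset ℕ) : Prop where
  prime : ∀ r ∈ ρ, r.Prime
  dvd : ∀ r ∈ ρ, r ∣ Nat.card G
  ge : ∀ r ∈ ρ, 11 ≤ r
  cc : ∀ r ∈ ρ, CC G r
  nn : ∀ r ∈ ρ, ∀ s ∈ ρ, r ≠ s → NN G r s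

/-- elements commuting with an element of order `r` commute -/
theorem CC.comm {r : ℕ} (h : CC G r) {x a b : G} (hx : orderOf x = r) (ha : Commute a x) (hb : Commute b x) :
    Commute a b := by
  have hc := h x hx
  have ha' : a ∈ Subgroup.centralizer ({x} : Set G) := Subgroup.mem_centralizer_singleton_iff.2 ha
  have hb' : b ∈ Subgroup.centralizer ({x} : Set G) := Subgroup.mem_centralizer_singleton_iff.2 hb
  have h1 := (IsCyclic.commGroup (α := ↥(Subgroup.centralizer ({x} : Set G)))).mul_comm ⟨a, ha'⟩ ⟨b, hb'⟩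
  exact congrArg Subtype.val h1

/-- in a finite cyclic group elements of order dividing the order of `b` are powers of `b` -/
theorem mem_zpowers_of_cyclic {C : Type*} [Group C] [Finite C] [IsCyclic C] {a b : C} (h : orderOf a ∣ orderOf b) :
    a ∈ Subgroup.zpowers b := by
  classical
  let _ : Fintype C := Fintype.ofFinite C
  have hn : 0 < orderOf b := orderOf_pos b
  have h1 := IsCyclic.card_pow_eq_one_le (α := C) hn
  have h2 : ((Subgroup.zpowers b : Set C).toFinset) ⊆ Finset.univ.filter (fun z : C => z ^ orderOf b = 1) := by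
    intro z hz
    rw [Set.mem_toFinset] at hz
    obtain ⟨k, rfl⟩ := Subgroup.mem_zpowers_iff.1 hz
    rw [Finset.mem_filter]
    refine ⟨Finset.mem_univ _, ?_⟩
    rw [← zpow_natCast, ← zpow_mul, mul_comm, zpow_mul, zpow_natCast, pow_orderOf_eq_one, one_zpow]
  have h3 : ((Subgroup.zpowers b : Set C).toFinset).card = orderOf b := by
    rw [Set.toFinset_card, ← Nat.card_eq_fintype_card]
    exact Nat.card_zpowers b
  have h4 := Finset.eq_of_subset_of_card_le h2 (by rw [h3]; exact h1)
  have h5 : a ∈ Finset.univ.filter (fun z : C => z ^ orderOf b = 1) := by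
    rw [Finset.mem_filter]
    exact ⟨Finset.mem_univ _, orderOf_dvd_iff_pow_eq_one.1 h⟩
  rw [← h4, Set.mem_toFinset] at h5
  exact h5

/-- pairwise not adjacent in the prime graph -/
theorem NN.not_adj {r s : ℕ} (hr : r.Prime) (hs : s.Prime) (h : NN G r s) :
    ¬ ∃ z : G, orderOf z = r * s := by
  rintro ⟨z, hz⟩
  have h1 : orderOf (z ^ s) = r := by
    rw [orderOf_pow' z hs.ne_zero, hz, Nat.gcd_eq_right (Dvd.intro_left r rfl), Nat.mul_div_cancel _ hs.pos]
  have h2 : orderOf (z ^ r) = s := by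
    rw [orderOf_pow' z hr.ne_zero, hz, Nat.gcd_eq_right (Dvd.intro s rfl), Nat.mul_div_cancel_left _ hr.pos]
  refine h (z ^ s) (z ^ r) h1 h2 ?_
  have h3 : z ^ s * z ^ r * (z ^ s)⁻¹ = z ^ r := by
    rw [← pow_add, add_comm s r, pow_add, mul_inv_cancel_right]
  rw [h3]
  exact Subgroup.mem_zpowers _

theorem Ind.not_adj {ρ : Finset ℕ} (h : Ind G ρ) {r s : ℕ} (hr : r ∈ ρ) (hs : s ∈ ρ) (hrs : r ≠ s) :
    ¬ ∃ z : G, orderOf z = r * s :=
  (h.nn r hr s hs hrs).not_adj (h.prime r hr) (h.prime s hs)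

theorem Ind.mono {ρ σ : Finset ℕ} (h : Ind G ρ) (hσ : σ ⊆ ρ) : Ind G σ :=
  ⟨fun r hr => h.prime r (hσ hr), fun r hr => h.dvd r (hσ hr), fun r hr => h.ge r (hσ hr),
    fun r hr => h.cc r (hσ hr), fun r hr s hs => h.nn r (hσ hr) s (hσ hs)⟩

/-! ### transport -/

variable {H : Type*} [Group H]

theorem CC.congr (e : G ≃* H) {r : ℕ} (h : CC G r) : CC H r := by
  intro x hx
  have h1 : orderOf (e.symm x) = r := by
    rw [← hx]; exact orderOf_injective e.symm.toMonoidHom e.symm.injective x
  have h2 := h (e.symm x) h1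
  have h3 : (Subgroup.centralizer ({e.symm x} : Set G)).map e.toMonoidHom = Subgroup.centralizer ({x} : Set H) := by
    ext y
    constructor
    · rintro ⟨z, hz, rfl⟩
      have hz' := Subgroup.mem_centralizer_singleton_iff.1 hz
      rw [Subgroup.mem_centralizer_singleton_iff]
      have := congrArg e hz'
      simpa using this
    · intro hy
      rw [Subgroup.mem_centralizer_singleton_iff] at hy
      refine ⟨e.symm y, ?_, by simp⟩
      show e.symm y ∈ Subgroup.centralizer ({e.symm x} : Set G)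
      rw [Subgroup.mem_centralizer_singleton_iff, ← map_mul, ← map_mul, hy]
  rw [← h3]
  exact ((Subgroup.centralizer ({e.symm x} : Set G)).equivMapOfInjective e.toMonoidHom e.injective).isCyclic.1 h2

theorem NN.congr (e : G ≃* H) {r s : ℕ} (h : NN G r s) : NN H r s := by
  intro x y hx hy hxy
  refine h (e.symm x) (e.symm y) ?_ ?_ ?_
  · rw [← hx]; exact orderOf_injective e.symm.toMonoidHom e.symm.injective x
  · rw [← hy]; exact orderOf_injective e.symm.toMonoidHom e.symm.injective y
  · obtain ⟨k, hk⟩ := Subgroup.mem_zpowers_iff.1 hxy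
    refine Subgroup.mem_zpowers_iff.2 ⟨k, ?_⟩
    rw [← map_zpow, hk, map_mul, map_mul, map_inv]

theorem CD.congr (e : G ≃* H) {r n : ℕ} (h : CD G r n) : CD H r n := by
  intro x hx
  have h1 : orderOf (e.symm x) = r := by
    rw [← hx]; exact orderOf_injective e.symm.toMonoidHom e.symm.injective x
  have h2 := h (e.symm x) h1
  have h3 : (Subgroup.centralizer ({e.symm x} : Set G)).map e.toMonoidHom = Subgroup.centralizer ({x} : Set H) := by
    ext y
    constructor
    · rintro ⟨z, hz, rfl⟩
      have hz' := Subgroup.mem_centralizer_singleton_iff.1 hz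
      rw [Subgroup.mem_centralizer_singleton_iff]
      have := congrArg e hz'
      simpa using this
    · intro hy
      rw [Subgroup.mem_centralizer_singleton_iff] at hy
      refine ⟨e.symm y, ?_, by simp⟩
      show e.symm y ∈ Subgroup.centralizer ({e.symm x} : Set G)
      rw [Subgroup.mem_centralizer_singleton_iff, ← map_mul, ← map_mul, hy]
  rw [← h3]
  rwa [Nat.card_congr ((Subgroup.centralizer ({e.symm x} : Set G)).equivMapOfInjective e.toMonoidHom
    e.injective).symm.toEquiv]

theorem Ind.congr (e : G ≃* H) {ρ : Finset ℕ} (h : Ind G ρ) : Ind H ρ :=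
  ⟨h.prime, fun r hr => by rw [← Nat.card_congr e.toEquiv]; exact h.dvd r hr, h.ge,
    fun r hr => (h.cc r hr).congr e, fun r hr s hs hrs => (h.nn r hr s hs hrs).congr e⟩

end Cfsg.Agent.H190.Exc
end

-- part: H190/Exc/Main
section
set_option linter.all false
open scoped Cfsg.Agent.FastGrp

-- part: H190/Exc/Sec
section
/-!
# Ranks of elementary abelian sections

`SecRank G t k` : every elementary abelian `t`-section of `G` has order at most `t ^ k`.

`SecRank.section` : it passes to quotients of subgroups; `SecRank.le_of_sub` : elementary abelian subgroups.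
-/

set_option autoImplicit false

namespace Cfsg.Agent.H190.Exc

universe u

/-- every elementary abelian `t`-section has order at most `t ^ k` -/
def SecRank (G : Type u) [Group G] (t k : ℕ) : Prop :=
  ∀ (N : Subgroup G) (A : Type u) [CommGroup A] (φ : ↥N →* A), Function.Surjective φ → (∀ a : A, a ^ t = 1) →
    Nat.card A ≤ t ^ k

variable {G : Type u} [Group G]

theorem SecRank.mono {t k k' : ℕ} (ht : 0 < t) (h : SecRank G t k) (hk : k ≤ k') : SecRank G t k' :=
  fun N A _ φ hφ hA => (h N A φ hφ hA).trans (Nat.pow_le_pow_right ht hk)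

end Cfsg.Agent.H190.Exc
end

-- part: H190/Exc/Main
section
/-!
# The simple section

`exists_simple_section` : `Ind T ρ`, `2 ≤ |ρ|`, `R ≤ T` of order divisible by all `r ∈ ρ`: there are `N ≤ R`, `M ⊲ N`
with `N / M` simple, not abelian, `|M|` prime to `ρ` and `Ind (N / M) ρ`.
-/

set_option autoImplicit false
set_option linter.unusedSectionVars false

namespace Cfsg.Agent.H190.Exc

universe u

section lift

variable {N : Type*} [Group N] [Finite N] (M : Subgroup N) [hMn : M.Normal] {r : ℕ}

/-- elements of prime order lift if the order is prime to the kernel -/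
theorem exists_lift_order (hr : r.Prime) (hM : ¬ r ∣ Nat.card M) (x : N ⧸ M) (hx : orderOf x = r) :
    ∃ y : N, orderOf y = r ∧ (QuotientGroup.mk' M y) = x := by
  obtain ⟨g, rfl⟩ := QuotientGroup.mk'_surjective M x
  have h1 : g ^ r ∈ M := by
    rw [← QuotientGroup.eq_one_iff, QuotientGroup.mk_pow]
    have := pow_orderOf_eq_one (QuotientGroup.mk' M g)
    rw [hx] at this
    exact this
  have h2 : (g ^ r) ^ Nat.card M = 1 := by
    have := pow_card_eq_one' (G := ↥M) (x := ⟨g ^ r, h1⟩)
    exact congrArg Subtype.val this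
  have hco : Nat.Coprime (Nat.card M) r := ((Nat.Prime.coprime_iff_not_dvd hr).2 hM).symm
  obtain ⟨c, -, hc⟩ := Nat.exists_mul_mod_eq_one_of_coprime hco hr.one_lt
  have h3 : QuotientGroup.mk' M (g ^ (Nat.card M * c)) = QuotientGroup.mk' M g := by
    rw [map_pow]
    conv_rhs => rw [← pow_one (QuotientGroup.mk' M g)]
    rw [pow_eq_pow_iff_modEq, hx]
    rw [Nat.ModEq, hc, Nat.mod_eq_of_lt hr.one_lt]
  refine ⟨g ^ (Nat.card M * c), ?_, h3⟩
  have : Fact r.Prime := ⟨hr⟩
  refine orderOf_eq_prime ?_ ?_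
  · rw [← pow_mul, mul_comm, pow_mul, pow_mul, h2, one_pow]
  · intro h4
    rw [h4, map_one] at h3
    rw [← h3, orderOf_one] at hx
    exact hr.one_lt.ne hx

/-- elements commuting with an element of prime order lift -/
theorem exists_lift_comm (hr : r.Prime) (hM : ¬ r ∣ Nat.card M) {x : N} (hx : orderOf x = r) {b : N ⧸ M}
    (hb : Commute b (QuotientGroup.mk' M x)) : ∃ c : N, Commute c x ∧ QuotientGroup.mk' M c = b := by
  have : Fact r.Prime := ⟨hr⟩
  have hY : IsPGroup r ↥(Subgroup.zpowers x) := by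
    refine IsPGroup.of_card (n := 1) ?_
    rw [Nat.card_zpowers, hx, pow_one]
  have hx' : b ∈ Subgroup.centralizer
      (((Subgroup.zpowers x).map (QuotientGroup.mk' M) : Subgroup (N ⧸ M)) : Set (N ⧸ M)) := by
    rw [Subgroup.mem_centralizer_iff]
    rintro _ ⟨y, hy, rfl⟩
    obtain ⟨k, rfl⟩ := Subgroup.mem_zpowers_iff.1 hy
    rw [map_zpow]
    exact ((hb.zpow_right k).eq).symm
  obtain ⟨c, hc, rfl⟩ := Classification.InvariantCore.exists_lift (p := r)
    (((Nat.Prime.coprime_iff_not_dvd hr).2 hM).symm) hY hx'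
  refine ⟨c, ?_, rfl⟩
  rw [Subgroup.mem_centralizer_iff] at hc
  exact (hc x (Subgroup.mem_zpowers x)).symm

/-- the centraliser maps onto the centraliser -/
theorem exists_cent_map (hr : r.Prime) (hM : ¬ r ∣ Nat.card M) {x : N} (hx : orderOf x = r) :
    ∃ φ : ↥(Subgroup.centralizer ({x} : Set N)) →* ↥(Subgroup.centralizer ({QuotientGroup.mk' M x} : Set (N ⧸ M))),
      Function.Surjective φ := by
  let φ : ↥(Subgroup.centralizer ({x} : Set N)) →*
      ↥(Subgroup.centralizer ({QuotientGroup.mk' M x} : Set (N ⧸ M))) :=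
    ((QuotientGroup.mk' M).comp (Subgroup.subtype _)).codRestrict _ (fun y => by
      rw [Subgroup.mem_centralizer_singleton_iff]
      show QuotientGroup.mk' M y.1 * QuotientGroup.mk' M x = QuotientGroup.mk' M x * QuotientGroup.mk' M y.1
      rw [← map_mul, ← map_mul, Subgroup.mem_centralizer_singleton_iff.1 y.2])
  refine ⟨φ, ?_⟩
  rintro ⟨b, hb⟩
  obtain ⟨c, hc, rfl⟩ := exists_lift_comm M hr hM hx (Subgroup.mem_centralizer_singleton_iff.1 hb)
  exact ⟨⟨c, Subgroup.mem_centralizer_singleton_iff.2 hc⟩, Subtype.ext rfl⟩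

variable {M}

theorem CC.quot (h : CC N r) (hr : r.Prime) (hM : ¬ r ∣ Nat.card M) : CC (N ⧸ M) r := by
  intro x hx
  obtain ⟨y, hy, rfl⟩ := exists_lift_order M hr hM x hx
  obtain ⟨φ, hφ⟩ := exists_cent_map M hr hM hy
  have := h y hy
  exact isCyclic_of_surjective φ hφ

theorem CD.quot {n : ℕ} (h : CD N r n) (hr : r.Prime) (hM : ¬ r ∣ Nat.card M) : CD (N ⧸ M) r n := by
  intro x hx
  obtain ⟨y, hy, rfl⟩ := exists_lift_order M hr hM x hx
  obtain ⟨φ, hφ⟩ := exists_cent_map M hr hM hy
  exact (Subgroup.card_dvd_of_surjective φ hφ).trans (h y hy)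

theorem NN.quot {s : ℕ} (h : NN N r s) (hs : s.Prime) (hMs : ¬ s ∣ Nat.card M) : NN (N ⧸ M) r s := by
  intro x y hx hy hxy
  have : Fact s.Prime := ⟨hs⟩
  obtain ⟨S, hS, hSmap, hact⟩ := frattini_section (QuotientGroup.mk' M) (QuotientGroup.mk'_surjective M) s
    (Subgroup.zpowers y) (IsPGroup.of_card (n := 1) (by rw [Nat.card_zpowers, hy, pow_one]))
  -- `x` normalises `⟨y⟩`
  have hn : ∀ q : N ⧸ M, q ∈ Subgroup.zpowers y → x * q * x⁻¹ ∈ Subgroup.zpowers y := by
    intro q hq
    obtain ⟨k, rfl⟩ := Subgroup.mem_zpowers_iff.1 hq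
    rw [← conj_zpow]
    exact Subgroup.zpow_mem _ hxy k
  have hn' : ∀ q : N ⧸ M, q ∈ Subgroup.zpowers y ↔ x * q * x⁻¹ ∈ Subgroup.zpowers y := by
    intro q
    refine ⟨hn q, fun hq => ?_⟩
    have key : (Subgroup.zpowers y).map (MulAut.conj x).toMonoidHom = Subgroup.zpowers y := by
      refine Subgroup.eq_of_le_of_card_ge ?_ ?_
      · rintro _ ⟨q, hq, rfl⟩
        exact hn q hq
      · rw [Nat.card_congr ((Subgroup.zpowers y).equivMapOfInjective _ (MulAut.conj x).injective).toEquiv.symm]
    rw [← key] at hq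
    obtain ⟨q', hq', h1⟩ := hq
    have h2 : q' = q := (MulAut.conj x).injective h1
    rwa [← h2]
  obtain ⟨g, hg, hgS⟩ := hact x hn'
  -- `S` has order `s`
  have hSM : S ⊓ M = ⊥ := by
    rw [← Subgroup.card_eq_one]
    obtain ⟨k, hk⟩ := IsPGroup.iff_card.1 (hS.to_le (inf_le_left : S ⊓ M ≤ S))
    rcases Nat.eq_zero_or_pos k with h0 | h0
    · rw [hk, h0, pow_zero]
    · exfalso
      exact hMs ((dvd_pow_self s h0.ne').trans (hk ▸ Subgroup.card_dvd_of_le inf_le_right))
  have hyS : y ∈ S.map (QuotientGroup.mk' M) := by rw [hSmap]; exact Subgroup.mem_zpowers y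
  obtain ⟨z, hzS, hzy⟩ := hyS
  have hz1 : z ≠ 1 := by
    rintro rfl
    rw [map_one] at hzy
    rw [← hzy, orderOf_one] at hy
    exact hs.one_lt.ne hy
  have hinj : ∀ a ∈ S, QuotientGroup.mk' M a = 1 → a = 1 := by
    intro a ha h1
    have h2 : a ∈ S ⊓ M := ⟨ha, (QuotientGroup.eq_one_iff a).1 h1⟩
    rw [hSM] at h2
    exact Subgroup.mem_bot.1 h2
  have hzs : orderOf z = s := by
    refine orderOf_eq_prime (hinj _ (S.pow_mem hzS s) ?_) hz1
    rw [map_pow, hzy, ← hy, pow_orderOf_eq_one]
  have hSz : ∀ a ∈ S, a ∈ Subgroup.zpowers z := by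
    intro a ha
    have h1 : QuotientGroup.mk' M a ∈ Subgroup.zpowers y := by
      rw [← hSmap]; exact ⟨a, ha, rfl⟩
    obtain ⟨k, hk⟩ := Subgroup.mem_zpowers_iff.1 h1
    refine Subgroup.mem_zpowers_iff.2 ⟨k, ?_⟩
    have h2 : (z ^ k)⁻¹ * a = 1 := by
      refine hinj _ (S.mul_mem (S.inv_mem (S.zpow_mem hzS k)) ha) ?_
      rw [map_mul, map_inv, map_zpow, hzy, hk, inv_mul_cancel]
    exact (inv_mul_eq_one.1 h2)
  -- an element of order `r`
  have hrg : r ∣ orderOf g := by
    rw [← hx, ← hg]
    exact orderOf_map_dvd _ g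
  obtain ⟨c, hc⟩ := hrg
  have hc0 : c ≠ 0 := by
    rintro rfl
    rw [mul_zero] at hc
    exact (orderOf_pos g).ne' hc
  have hgc : orderOf (g ^ c) = r := by
    rw [orderOf_pow' g hc0, hc, Nat.gcd_eq_right (Dvd.intro_left r rfl), Nat.mul_div_cancel _ (Nat.pos_of_ne_zero hc0)]
  have hpow : ∀ k : ℕ, g ^ k * z * (g ^ k)⁻¹ ∈ S := by
    intro k
    induction k with
    | zero => simpa using hzS
    | succ k ih =>
      have h1 := (hgS _).1 ih
      have e : g ^ (k + 1) * z * (g ^ (k + 1))⁻¹ = g * (g ^ k * z * (g ^ k)⁻¹) * g⁻¹ := by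
        rw [pow_succ']; group
      rw [e]
      exact h1
  exact h (g ^ c) z hgc hzs (hSz _ (hpow c))

end lift

section inj

variable {G H : Type*} [Group G] [Group H] {ι : H →* G} (hι : Function.Injective ι) {r : ℕ}

include hι

/-- the centraliser embeds in the centraliser -/
theorem exists_cent_inj (x : H) :
    ∃ φ : ↥(Subgroup.centralizer ({x} : Set H)) →* ↥(Subgroup.centralizer ({ι x} : Set G)),
      Function.Injective φ := by
  let φ : ↥(Subgroup.centralizer ({x} : Set H)) →* ↥(Subgroup.centralizer ({ι x} : Set G)) :=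
    (ι.comp (Subgroup.subtype _)).codRestrict _ (fun y => by
      rw [Subgroup.mem_centralizer_singleton_iff]
      show ι y.1 * ι x = ι x * ι y.1
      rw [← map_mul, ← map_mul, Subgroup.mem_centralizer_singleton_iff.1 y.2])
  refine ⟨φ, fun a b hab => Subtype.ext (hι ?_)⟩
  exact congrArg Subtype.val hab

theorem CC.of_inj (h : CC G r) : CC H r := by
  intro x hx
  obtain ⟨φ, hφ⟩ := exists_cent_inj hι x
  have := h (ι x) (by rw [← hx]; exact orderOf_injective ι hι x)
  exact isCyclic_of_injective φ hφ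

theorem CD.of_inj [Finite G] {n : ℕ} (h : CD G r n) : CD H r n := by
  intro x hx
  obtain ⟨φ, hφ⟩ := exists_cent_inj hι x
  exact (Subgroup.card_dvd_of_injective φ hφ).trans (h (ι x) (by rw [← hx]; exact orderOf_injective ι hι x))

theorem NN.of_inj {s : ℕ} (h : NN G r s) : NN H r s := by
  intro x y hx hy hxy
  refine h (ι x) (ι y) (by rw [← hx]; exact orderOf_injective ι hι x) (by rw [← hy]; exact orderOf_injective ι hι y) ?_
  obtain ⟨k, hk⟩ := Subgroup.mem_zpowers_iff.1 hxy
  refine Subgroup.mem_zpowers_iff.2 ⟨k, ?_⟩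
  rw [← map_zpow, hk, map_mul, map_mul, map_inv]

end inj

end Cfsg.Agent.H190.Exc
end
end

-- part: H680/ExcSz
section
set_option linter.all false
open scoped Cfsg.Agent.FastGrp

/-!
# Task 1573 (EXC-SZ-TF4), first half: the Suzuki groups
-/

set_option autoImplicit false

namespace Cfsg.Agent.H680.Exc

open Cfsg Cfsg.Agent.H190.Exc
open Cfsg.Agent.LieExceptional Cfsg.Agent.LieExceptional.SuzukiSylow
open Cfsg.Agent.H98.SzBasic Cfsg.Agent.H98.SzPartition
open Cfsg.Agent.OddCyclic.ClaimC.SzIso (jj jj_val jj_injective range_eq)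

universe u

section Suz

variable {F : Type*} [Field F] [Fintype F] {m : ℕ}

/-- the isomorphism between the two models -/
noncomputable def iso (hm : 1 ≤ m) (hF : Fintype.card F = 2 ^ (2 * m + 1)) :
    Cfsg.Sz F m ≃* ↥(Cfsg.Lie.Sz F (2 ^ (m + 1))) :=
  MulEquiv.ofBijective ((jj F m).codRestrict _ (fun g => by rw [range_eq hm hF]; exact ⟨g, rfl⟩)) ⟨by
    intro g h hgh
    exact jj_injective (congrArg Subtype.val hgh), by
    rintro ⟨g, hg⟩
    rw [range_eq hm hF] at hg
    obtain ⟨g0, h⟩ := hg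
    exact ⟨g0, Subtype.ext h⟩⟩

end Suz

end Cfsg.Agent.H680.Exc
end
end
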